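import Mathlib
import Groth.Prelude
import Groth.Agent.Lib.Helper8.LCI.Fibre5
import Groth.Agent.Lib.Helper6.FiberDict

set_option autoImplicit false
universe u

open Groth.Agent.H8.LCI Groth.Agent.H6

namespace Groth.Agent.H8.RegSec

variable {A P : Type u} [CommRing A] [CommRing P] [Algebra A P]

/-- The fibre local rings of a finite type algebra are Noetherian. -/
theorem isNoetherianRing_fibLoc [Algebra.FiniteType A P] (𝔮 : Ideal P) [h𝔮 : 𝔮.IsPrime] :
    IsNoetherianRing (Localization.AtPrime 𝔮 ⧸ pL (A := A) 𝔮) := by
  set p := 𝔮.comap (algebraMap A P) with hp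
  have : IsNoetherianRing (p.Fiber P) :=
    Algebra.FiniteType.isNoetherianRing p.ResidueField (p.Fiber P)
  obtain ⟨P', hP', hu⟩ := FiberDict.exists_under_eq p 𝔮 rfl
  have key : ∀ (r : Ideal P) (hr : r.IsPrime), FiberDict.under p P' = r →
      IsNoetherianRing (Localization.AtPrime r ⧸ pL (A := A) r) := by
    rintro r hr rfl
    have e : Localization.AtPrime P' ≃+*
        (Localization.AtPrime (FiberDict.under p P') ⧸ pL (A := A) (FiberDict.under p P')) :=
      FiberDict.ringEquiv p P'
    have : IsNoetherianRing (Localization.AtPrime P') :=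
      IsLocalization.isNoetherianRing P'.primeCompl _ inferInstance
    exact isNoetherianRing_of_ringEquiv _ e
  exact key 𝔮 h𝔮 hu

end Groth.Agent.H8.RegSec
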