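import Mathlib
import Groth.Prelude
import Groth.Agent.Lib.Helper8.RegSec.Fib
import Groth.Agent.Lib.Helper8.Synt.Core
import Groth.Agent.Lib.Helper8.KosQuot.S
import Groth.Agent.Lib.Helper8.KosBCh.Main
import Groth.Agent.Lib.Helper8.KosN.Reg
import Groth.Agent.Lib.Helper8.KosDesc.Loc
import Groth.Agent.Lib.Helper8.Rig.FlatTransfer
import Groth.Agent.Lib.Helper8.LCIHom.Local

/-!
# Sections of smooth algebras are cut out by regular sequences
-/

set_option autoImplicit false
universe u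

open Groth.Agent.H8.LCI RingTheory.Sequence

namespace Groth.Agent.H8.RegSec

section sec

variable {A C : Type u} [CommRing A] [CommRing C] [Algebra A C] [Algebra.Smooth A C]

/-- **(RL'')**: if `A → C` is smooth and `A → C/I` is bijective (i.e. `I` is the kernel of an
`A`-retraction of `C`), then near every prime `𝔮 ⊇ I`, `I` is generated by a weakly regular
sequence. -/
theorem exists_away_weaklyRegular_of_section (I : Ideal C)
    (hbij : Function.Bijective ((Ideal.Quotient.mk I).comp (algebraMap A C)))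
    (𝔮 : Ideal C) [𝔮.IsPrime] (hI : I ≤ 𝔮) :
    ∃ g : C, g ∉ 𝔮 ∧ ∃ ys : List C, (∀ y ∈ ys, y ∈ I) ∧
      IsWeaklyRegular (Localization.Away g) (ys.map (algebraMap C (Localization.Away g))) ∧
      I.map (algebraMap C (Localization.Away g)) =
        Ideal.ofList (ys.map (algebraMap C (Localization.Away g))) := by
  -- `C/I ≅ A`
  have hbij' : Function.Bijective (Algebra.ofId A (C ⧸ I)) := hbij
  let e : A ≃ₐ[A] (C ⧸ I) := AlgEquiv.ofBijective (Algebra.ofId A (C ⧸ I)) hbij'
  have hflat : Module.Flat A (C ⧸ I) := Module.Flat.of_linearEquiv e.toLinearEquiv.symm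
  have hfp : Algebra.FinitePresentation A (C ⧸ I) := Algebra.FinitePresentation.equiv e
  have hfg : I.FG := by
    have h := Algebra.FinitePresentation.ker_fG_of_surjective (Ideal.Quotient.mkₐ A I)
      (Ideal.Quotient.mkₐ_surjective A I)
    change (RingHom.ker (Ideal.Quotient.mk I)).FG at h
    rwa [Ideal.mk_ker] at h
  -- Step 1: `I` is a Koszul-regular ideal
  have hKR : _root_.LCI.IsKoszulRegularIdeal I := by
    have hlci : _root_.LCI.IsLCI A (C ⧸ I) :=
      Groth.Agent.H8.LCIHom.isLCI_of_algEquiv e (Groth.Agent.H8.LCIHom.isLCI_self A)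
    have h := Groth.Agent.H8.KosQuot.isKoszulRegularIdeal_ker_of_smooth_of_isLCI A C (C ⧸ I)
      Ideal.Quotient.mk_surjective hlci
    rwa [Ideal.Quotient.algebraMap_eq, Ideal.mk_ker] at h
  -- Step 2: a Koszul-regular chart at `𝔮`, transported to the local ring
  obtain ⟨g, hg, l, hl, hIl⟩ := hKR ⟨𝔮, inferInstance⟩ hI
  obtain ⟨L, -, hL, hIL⟩ := Groth.Agent.H8.KosDesc.exists_atPrime_of_away 𝔮 g hg l hl I hIl
  -- Step 3: base change to the fibre local ring
  set p := 𝔮.comap (algebraMap A C) with hp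
  have hpo := Groth.Agent.H8.Rig.isPushout_quotient A (Localization.AtPrime 𝔮) p
  have hflatL : Module.Flat A (Localization.AtPrime 𝔮) :=
    Module.Flat.trans A C (Localization.AtPrime 𝔮)
  have hflq : Module.Flat A (Localization.AtPrime 𝔮 ⧸ Ideal.ofList L) := by
    rw [← hIL]
    exact flat_quot_KL (A := A) I 𝔮
  have hKRfib := Groth.Agent.H8.KosBCh.isKoszulRegularSeq_map_of_isPushout A (A ⧸ p)
    (Localization.AtPrime 𝔮) (Localization.AtPrime 𝔮 ⧸ pL (A := A) 𝔮) L hL hflq
  -- Step 4: (N)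
  have hne : pL (A := A) 𝔮 ≠ ⊤ := fun h =>
    (IsLocalRing.maximalIdeal.isMaximal _).ne_top
      (top_le_iff.mp (h ▸ pL_le_maximalIdeal (A := A) 𝔮))
  have : Nontrivial (Localization.AtPrime 𝔮 ⧸ pL (A := A) 𝔮) :=
    Ideal.Quotient.nontrivial_iff.mpr hne
  have : IsLocalRing (Localization.AtPrime 𝔮 ⧸ pL (A := A) 𝔮) :=
    IsLocalRing.of_surjective' (Ideal.Quotient.mk (pL (A := A) 𝔮)) Ideal.Quotient.mk_surjective
  have : IsNoetherianRing (Localization.AtPrime 𝔮 ⧸ pL (A := A) 𝔮) :=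
    isNoetherianRing_fibLoc (A := A) 𝔮
  have hmem : ∀ x ∈ L.map (algebraMap (Localization.AtPrime 𝔮)
      (Localization.AtPrime 𝔮 ⧸ pL (A := A) 𝔮)),
      x ∈ IsLocalRing.maximalIdeal (Localization.AtPrime 𝔮 ⧸ pL (A := A) 𝔮) := by
    intro x hx
    obtain ⟨y, hy, rfl⟩ := List.mem_map.mp hx
    have hy' : y ∈ IsLocalRing.maximalIdeal (Localization.AtPrime 𝔮) := by
      apply KL_le_maximalIdeal I 𝔮 hI
      show y ∈ I.map _
      rw [hIL]
      exact Ideal.subset_span hy
    rw [IsLocalRing.mem_maximalIdeal, mem_nonunits_iff] at hy' ⊢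
    intro hu
    apply hy'
    have : IsLocalHom (Ideal.Quotient.mk (pL (A := A) 𝔮)) :=
      IsLocalHom.of_surjective _ Ideal.Quotient.mk_surjective
    exact (isUnit_map_iff (Ideal.Quotient.mk (pL (A := A) 𝔮)) y).mp hu
  have hreg := Groth.Agent.H8.KosN.isRegular_of_isKoszulRegularSeq _ hmem hKRfib
  -- Step 5: (FC)
  have hgens : ∃ rs : List (Localization.AtPrime 𝔮 ⧸ pL (A := A) 𝔮),
      RingTheory.Sequence.IsRegular (Localization.AtPrime 𝔮 ⧸ pL (A := A) 𝔮) rs ∧
      Ideal.ofList rs = JR (A := A) I 𝔮 := by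
    refine ⟨_, hreg, ?_⟩
    rw [← Ideal.map_ofList, ← hIL]
    rfl
  exact Groth.Agent.H8.Synt.exists_away_weaklyRegular_of_gens' (A := A) I 𝔮 hfg hgens

end sec

end Groth.Agent.H8.RegSec
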