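import Mathlib
import Groth.Prelude
import Groth.Agent.Lib.Helper8.RegSec.Sec

/-!
# Closed subschemes of smooth schemes that are regularly immersed in the base
-/

set_option autoImplicit false
universe u

open RingTheory.Sequence

namespace Groth.Agent.H8.RegSec

/-- (T) weak regularity transfers along ring isomorphisms. -/
theorem isWeaklyRegular_map_ringEquiv {R R' : Type*} [CommRing R] [CommRing R'] (e : R ≃+* R')
    (rs : List R) (h : IsWeaklyRegular R rs) : IsWeaklyRegular R' (rs.map e) := by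
  refine (AddEquiv.isWeaklyRegular_congr (e := e.toAddEquiv) ?_).mp h
  exact List.forall₂_map_right_iff.mpr (List.forall₂_same.mpr fun r _ x => map_mul e r x)

section rel

variable {A C : Type u} [CommRing A] [CommRing C] [Algebra A C] [Algebra.Smooth A C]

/-- **(RL')**: `A → C` smooth, `I ⊆ C` an ideal such that `A → C/I` is surjective with kernel
generated by a weakly regular sequence. Then near every prime `𝔮 ⊇ I`, `I` is generated by a
weakly regular sequence. -/
theorem exists_away_weaklyRegular_of_smooth (ks : List A) (hks : IsWeaklyRegular A ks)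
    (I : Ideal C)
    (hsurj : Function.Surjective ((Ideal.Quotient.mk I).comp (algebraMap A C)))
    (hker : RingHom.ker ((Ideal.Quotient.mk I).comp (algebraMap A C)) = Ideal.ofList ks)
    (𝔮 : Ideal C) [𝔮.IsPrime] (hI : I ≤ 𝔮) :
    ∃ g : C, g ∉ 𝔮 ∧ ∃ rs : List (Localization.Away g),
      IsWeaklyRegular (Localization.Away g) rs ∧
      I.map (algebraMap C (Localization.Away g)) = Ideal.ofList rs := by
  set K := Ideal.ofList ks with hK
  set KC := K.map (algebraMap A C) with hKC
  have hKI : KC ≤ I := by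
    rw [hKC, Ideal.map_le_iff_le_comap]
    intro a ha
    rw [← hker, RingHom.mem_ker, RingHom.comp_apply, Ideal.Quotient.eq_zero_iff_mem] at ha
    exact ha
  -- the base change to `A/K`
  have hpo := Groth.Agent.H8.Rig.isPushout_quotient A C K
  have hsm : Algebra.Smooth (A ⧸ K) (C ⧸ KC) :=
    Algebra.Smooth.of_equiv (Algebra.IsPushout.equiv A (A ⧸ K) C (C ⧸ KC))
  set Ī := I.map (Ideal.Quotient.mk KC) with hĪ
  have hqb : (𝔮.map (Ideal.Quotient.mk KC)).IsPrime :=
    Ideal.map_isPrime_of_surjective Ideal.Quotient.mk_surjective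
      (by rw [Ideal.mk_ker]; exact hKI.trans hI)
  have hIqb : Ī ≤ 𝔮.map (Ideal.Quotient.mk KC) := Ideal.map_mono hI
  have hmemĪ : ∀ c : C, Ideal.Quotient.mk KC c ∈ Ī ↔ c ∈ I := by
    intro c
    constructor
    · intro hc
      obtain ⟨c', hc', hcc'⟩ :=
        (Ideal.mem_map_iff_of_surjective _ Ideal.Quotient.mk_surjective).mp hc
      have h1 : c' - c ∈ KC := Ideal.Quotient.eq.mp hcc'
      have h2 : c = c' - (c' - c) := by ring
      rw [h2]
      exact I.sub_mem hc' (hKI h1)
    · exact fun hc => Ideal.mem_map_of_mem _ hc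
  have hbij : Function.Bijective
      ((Ideal.Quotient.mk Ī).comp (algebraMap (A ⧸ K) (C ⧸ KC))) := by
    constructor
    · rw [injective_iff_map_eq_zero]
      intro x hx
      obtain ⟨a, rfl⟩ := Ideal.Quotient.mk_surjective x
      rw [RingHom.comp_apply, Ideal.Quotient.eq_zero_iff_mem] at hx
      have h1 : algebraMap A C a ∈ I := (hmemĪ _).mp hx
      have h2 : a ∈ RingHom.ker ((Ideal.Quotient.mk I).comp (algebraMap A C)) := by
        rw [RingHom.mem_ker, RingHom.comp_apply, Ideal.Quotient.eq_zero_iff_mem]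
        exact h1
      rw [hker] at h2
      exact Ideal.Quotient.eq_zero_iff_mem.mpr h2
    · intro z
      obtain ⟨z, rfl⟩ := Ideal.Quotient.mk_surjective z
      obtain ⟨c, rfl⟩ := Ideal.Quotient.mk_surjective z
      obtain ⟨a, ha⟩ := hsurj (Ideal.Quotient.mk I c)
      refine ⟨Ideal.Quotient.mk K a, ?_⟩
      rw [RingHom.comp_apply] at ha ⊢
      rw [Ideal.Quotient.eq] at ha ⊢
      exact Ideal.mem_map_of_mem _ ha
  obtain ⟨gb, hgb, ysb, -, hwr, hgen⟩ := exists_away_weaklyRegular_of_section (A := A ⧸ K) Ī hbij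
    (𝔮.map (Ideal.Quotient.mk KC)) hIqb
  obtain ⟨g, rfl⟩ := Ideal.Quotient.mk_surjective gb
  obtain ⟨ys, rfl⟩ := List.map_surjective_iff.mpr Ideal.Quotient.mk_surjective ysb
  have hg : g ∉ 𝔮 := fun h => hgb (Ideal.mem_map_of_mem _ h)
  refine ⟨g, hg, ?_⟩
  -- the localization `C_g` and its quotient by `K C_g`
  set Cg := Localization.Away g with hCg
  set J := KC.map (algebraMap C Cg) with hJ
  let φ : C ⧸ KC →+* Cg ⧸ J := Ideal.quotientMap J (algebraMap C Cg) Ideal.le_comap_map
  let _ : Algebra (C ⧸ KC) (Cg ⧸ J) := φ.toAlgebra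
  have hφ : ∀ c : C, algebraMap (C ⧸ KC) (Cg ⧸ J) (Ideal.Quotient.mk KC c) =
      Ideal.Quotient.mk J (algebraMap C Cg c) := fun c => rfl
  have hloc : IsLocalization.Away (Ideal.Quotient.mk KC g) (Cg ⧸ J) := by
    have h := IsLocalization.of_surjective (M := Submonoid.powers g) (S := Cg)
      (Ideal.Quotient.mk KC) Ideal.Quotient.mk_surjective (Ideal.Quotient.mk J)
      Ideal.Quotient.mk_surjective (RingHom.ext fun c => (hφ c).symm)
      (by rw [Ideal.mk_ker, Ideal.mk_ker])
    rwa [Submonoid.map_powers] at h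
  let ε : Localization.Away (Ideal.Quotient.mk KC g) ≃ₐ[C ⧸ KC] (Cg ⧸ J) :=
    IsLocalization.algEquiv (Submonoid.powers (Ideal.Quotient.mk KC g)) _ _
  set ys' := ys.map (algebraMap C Cg) with hys'
  set ks' := ks.map (algebraMap A Cg) with hks'
  let εr : Localization.Away (Ideal.Quotient.mk KC g) →+* (Cg ⧸ J) := ε.toRingEquiv.toRingHom
  have hlist : ((ys.map (Ideal.Quotient.mk KC)).map
      (algebraMap (C ⧸ KC) (Localization.Away (Ideal.Quotient.mk KC g)))).map εr =
      ys'.map (algebraMap Cg (Cg ⧸ J)) := by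
    rw [hys', List.map_map, List.map_map, List.map_map]
    apply List.map_congr_left
    intro c _
    simp only [Function.comp_apply]
    change ε (algebraMap _ _ (Ideal.Quotient.mk KC c)) = _
    rw [ε.commutes, hφ]
    rfl
  have hJeq : J = Ideal.ofList ks' := by
    rw [hJ, hKC, Ideal.map_map, ← IsScalarTower.algebraMap_eq, hK, Ideal.map_ofList]
  have hwr2 : IsWeaklyRegular (Cg ⧸ (Ideal.ofList ks' • ⊤ : Submodule Cg Cg)) ys' := by
    have h1 := isWeaklyRegular_map_ringEquiv ε.toRingEquiv _ hwr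
    change IsWeaklyRegular (Cg ⧸ J) (List.map εr _) at h1
    rw [hlist, isWeaklyRegular_map_algebraMap_iff] at h1
    have heq : (J : Submodule Cg Cg) = Ideal.ofList ks' • (⊤ : Submodule Cg Cg) := by
      rw [smul_eq_mul, Ideal.mul_top, hJeq]
    exact (LinearEquiv.isWeaklyRegular_congr (Submodule.quotEquivOfEq _ _ heq) ys').mp h1
  have hflat : Module.Flat A Cg := Module.Flat.trans A C Cg
  refine ⟨ks' ++ ys', (isWeaklyRegular_append_iff Cg ks' ys').mpr ⟨hks.of_flat, hwr2⟩, ?_⟩
  -- the ideal
  rw [Ideal.ofList_append, ← hJeq]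
  have hgen2 : (I.map (algebraMap C Cg)).map (Ideal.Quotient.mk J) =
      (Ideal.ofList ys').map (Ideal.Quotient.mk J) := by
    have h1 := congrArg (Ideal.map εr) hgen
    rw [Ideal.map_ofList, hlist, hĪ, Ideal.map_map, Ideal.map_map] at h1
    rw [Ideal.map_map, Ideal.map_ofList]
    convert h1 using 2
    · ext c
      change Ideal.Quotient.mk J (algebraMap C Cg c) = ε (algebraMap _ _ (Ideal.Quotient.mk KC c))
      rw [ε.commutes, hφ]
    · rfl
  have h3 := congrArg (Ideal.comap (Ideal.Quotient.mk J)) hgen2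
  rw [Ideal.comap_map_of_surjective _ Ideal.Quotient.mk_surjective,
    Ideal.comap_map_of_surjective _ Ideal.Quotient.mk_surjective, ← RingHom.ker_eq_comap_bot,
    Ideal.mk_ker] at h3
  have hJI : J ≤ I.map (algebraMap C Cg) := Ideal.map_mono hKI
  rw [sup_eq_left.mpr hJI] at h3
  rw [h3, sup_comm]

end rel

end Groth.Agent.H8.RegSec
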