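import Mathlib
import Groth.Prelude
import Groth.Agent.Lib.Helper8.RegSec.Rel
import Groth.Agent.Lib.Helper8.KosBCImm.Ideal
import Groth.Agent.Lib.Helper1.RegCompGeo

/-!
# Sections of smooth morphisms are regular closed immersions
-/

set_option autoImplicit false
universe u

open CategoryTheory AlgebraicGeometry TopologicalSpace Opposite RingTheory.Sequence

namespace Groth.Agent.H8.RegSec

/-- the chart lemma. -/
theorem exists_regular_chart {X Y S : Scheme.{u}} (p : X ⟶ S) [Smooth p] (i : Y ⟶ X)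
    [IsClosedImmersion i] [IsClosedImmersion (i ≫ p)]
    (V : S.Opens) (hV : IsAffineOpen V) (U : X.Opens) (hU : IsAffineOpen U) (hUV : U ≤ p ⁻¹ᵁ V)
    (hpre : i ⁻¹ᵁ U = (i ≫ p) ⁻¹ᵁ V) (ks : List Γ(S, V)) (hks : IsWeaklyRegular Γ(S, V) ks)
    (hK : (i ≫ p).ker.ideal ⟨V, hV⟩ = Ideal.ofList ks) (y : Y) (hy : i y ∈ U) :
    ∃ (U' : X.Opens) (hU' : IsAffineOpen U'), i y ∈ U' ∧ ∃ rs : List Γ(X, U'),
      IsRegular Γ(X, U') rs ∧ i.ker.ideal ⟨U', hU'⟩ = Ideal.ofList rs := by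
  let alg : Algebra Γ(S, V) Γ(X, U) := (p.appLE V U hUV).hom.toAlgebra
  have hsm : Algebra.Smooth Γ(S, V) Γ(X, U) :=
    HasRingHomProperty.appLE @Smooth p inferInstance ⟨V, hV⟩ ⟨U, hU⟩ hUV
  set I := RingHom.ker (i.app U).hom with hI
  -- compatibility
  have hcomp : p.appLE V U hUV ≫ i.app U =
      (i ≫ p).app V ≫ Y.presheaf.map (eqToHom hpre).op := by
    rw [← Scheme.Hom.appLE_eq_app, Scheme.Hom.appLE_comp_appLE]
    rfl
  have key : ∀ a : Γ(S, V), (i.app U).hom (algebraMap Γ(S, V) Γ(X, U) a) =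
      (Y.presheaf.map (eqToHom hpre).op).hom (((i ≫ p).app V).hom a) := by
    intro a
    exact congrArg (fun φ => φ.hom a) hcomp
  have hbij : Function.Bijective (Y.presheaf.map (eqToHom hpre).op).hom :=
    ConcreteCategory.bijective_of_isIso (Y.presheaf.map (eqToHom hpre).op)
  have hjs : Function.Surjective ((i ≫ p).app V).hom := (i ≫ p).app_surjective V hV
  have hsurj : Function.Surjective ((Ideal.Quotient.mk I).comp (algebraMap Γ(S, V) Γ(X, U))) := by
    intro z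
    obtain ⟨c, rfl⟩ := Ideal.Quotient.mk_surjective z
    obtain ⟨t, ht⟩ := hbij.2 ((i.app U).hom c)
    obtain ⟨a, rfl⟩ := hjs t
    refine ⟨a, ?_⟩
    rw [RingHom.comp_apply, Ideal.Quotient.eq, hI, RingHom.mem_ker, map_sub, key, ht, sub_self]
  have hker : RingHom.ker ((Ideal.Quotient.mk I).comp (algebraMap Γ(S, V) Γ(X, U))) =
      Ideal.ofList ks := by
    rw [← hK, Scheme.Hom.ker_apply]
    ext a
    rw [RingHom.mem_ker, RingHom.comp_apply, Ideal.Quotient.eq_zero_iff_mem, hI, RingHom.mem_ker,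
      key, RingHom.mem_ker]
    constructor
    · intro h
      apply hbij.1
      rw [h, map_zero]
    · intro h
      rw [h, map_zero]
  -- the prime
  have hcl : IsClosedImmersion (i ∣_ U) := inferInstance
  have hIq := Groth.Agent.H8.KosBCImm.ker_le_primeIdealOf i U hU hcl y hy
  obtain ⟨g, hg, rs, hrs, hgen⟩ := exists_away_weaklyRegular_of_smooth ks hks I hsurj hker
    (hU.primeIdealOf ⟨i y, hy⟩).asIdeal hIq
  have hDU : X.basicOpen g ≤ U := X.basicOpen_le g
  have hzD : i y ∈ X.basicOpen g := by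
    have h1 : hU.primeIdealOf ⟨i y, hy⟩ ∈ hU.fromSpec ⁻¹ᵁ X.basicOpen g := by
      rw [hU.fromSpec_preimage_basicOpen]
      exact hg
    have h2 : hU.fromSpec (hU.primeIdealOf ⟨i y, hy⟩) ∈ X.basicOpen g := h1
    rwa [hU.fromSpec_primeIdealOf ⟨i y, hy⟩] at h2
  let algS : Algebra Γ(X, U) Γ(X, X.basicOpen g) :=
    (X.presheaf.map (homOfLE hDU).op).hom.toAlgebra
  have locS : IsLocalization.Away g Γ(X, X.basicOpen g) :=
    hU.isLocalization_of_eq_basicOpen g (homOfLE hDU) rfl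
  let e : Localization.Away g ≃ₐ[Γ(X, U)] Γ(X, X.basicOpen g) :=
    IsLocalization.algEquiv (Submonoid.powers g) (Localization.Away g) Γ(X, X.basicOpen g)
  have hU' : IsAffineOpen (X.basicOpen g) := hU.basicOpen g
  have hideal : i.ker.ideal ⟨X.basicOpen g, hU'⟩ = Ideal.ofList (rs.map e.toRingEquiv) := by
    have h0 := i.ker.map_ideal_basicOpen ⟨U, hU⟩ g
    have h1 : (X.presheaf.map (homOfLE hDU).op).hom =
        (e.toRingEquiv : Localization.Away g →+* Γ(X, X.basicOpen g)).comp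
          (algebraMap Γ(X, U) (Localization.Away g)) := by
      ext b
      change algebraMap Γ(X, U) Γ(X, X.basicOpen g) b = e (algebraMap _ _ b)
      rw [e.commutes]
    change i.ker.ideal (X.affineBasicOpen (U := ⟨U, hU⟩) g) = _
    rw [← h0, Scheme.Hom.ker_apply, h1, ← Ideal.map_map, ← hI, hgen, Ideal.map_ofList]
    rfl
  refine ⟨X.basicOpen g, hU', hzD, rs.map e.toRingEquiv, ?_, hideal⟩
  rw [Groth.Agent.H1.RegComp.isRegular_iff_ne_top]
  refine ⟨isWeaklyRegular_map_ringEquiv e.toRingEquiv rs hrs, ?_⟩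
  rw [← hideal]
  exact Groth.Agent.H1.RegComp.ker_ideal_ne_top i ⟨_, hU'⟩ y hzD

/-- **S1678**: a closed subscheme of a smooth `S`-scheme which is regularly immersed in `S` is
regularly immersed. -/
theorem isRegularClosedImmersion_of_smooth {X Y S : Scheme.{u}} (p : X ⟶ S) [Smooth p]
    (i : Y ⟶ X) (j : Y ⟶ S) [IsClosedImmersion i] [IsClosedImmersion j] (h : i ≫ p = j)
    (hj : Mor2.IsRegularClosedImmersion j) : Mor2.IsRegularClosedImmersion i := by
  subst h
  refine ⟨inferInstance, fun y => ?_⟩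
  obtain ⟨V, hV, hyV, ks, hks, hK⟩ := hj.2 y
  -- an affine open of `X` inside `p⁻¹ V`
  have hyV' : i y ∈ p ⁻¹ᵁ V := hyV
  obtain ⟨_, ⟨U₀, hU₀, rfl⟩, hyU₀, hsub⟩ :=
    X.isBasis_affineOpens.exists_subset_of_mem_open hyV' (p ⁻¹ᵁ V).isOpen
  have hsub' : U₀ ≤ p ⁻¹ᵁ V := hsub
  -- an open of `S` whose preimage in `Y` is `i⁻¹ U₀`
  obtain ⟨t, ht, hpre⟩ := ((i ≫ p).isClosedEmbedding.isEmbedding.isInducing.isOpen_iff).mp
    (i ⁻¹ᵁ U₀).isOpen
  let W : S.Opens := ⟨t, ht⟩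
  have hyW : (i ≫ p) y ∈ W := by
    have h1 : y ∈ (i ≫ p) ⁻¹' t := by rw [hpre]; exact hyU₀
    exact h1
  obtain ⟨a, haW, hya⟩ := hV.exists_basicOpen_le (V := W) ⟨(i ≫ p) y, hyW⟩ hyV
  -- the charts
  have hV' : IsAffineOpen (S.basicOpen a) := hV.basicOpen a
  set a' := (p.appLE V U₀ hsub').hom a with ha'
  have hU' : IsAffineOpen (X.basicOpen a') := hU₀.basicOpen a'
  have hUeq : X.basicOpen a' = U₀ ⊓ p ⁻¹ᵁ (S.basicOpen a) := Scheme.basicOpen_appLE p U₀ V hsub' a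
  have hUV' : X.basicOpen a' ≤ p ⁻¹ᵁ (S.basicOpen a) := by rw [hUeq]; exact inf_le_right
  have hyU' : i y ∈ X.basicOpen a' := by
    rw [hUeq]
    exact ⟨hyU₀, hya⟩
  have hpre' : i ⁻¹ᵁ (X.basicOpen a') = (i ≫ p) ⁻¹ᵁ (S.basicOpen a) := by
    rw [hUeq]
    ext z
    constructor
    · rintro ⟨-, hz⟩
      exact hz
    · intro hz
      refine ⟨?_, hz⟩
      have h1 : z ∈ (i ≫ p) ⁻¹' t := haW hz
      rw [hpre] at h1
      exact h1
  -- the regular sequence on `D(a)`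
  let algS : Algebra Γ(S, V) Γ(S, S.basicOpen a) :=
    (S.presheaf.map (homOfLE (S.basicOpen_le a)).op).hom.toAlgebra
  have locS : IsLocalization.Away a Γ(S, S.basicOpen a) :=
    hV.isLocalization_of_eq_basicOpen a (homOfLE (S.basicOpen_le a)) rfl
  have hks' : IsWeaklyRegular Γ(S, S.basicOpen a)
      (ks.map (algebraMap Γ(S, V) Γ(S, S.basicOpen a))) :=
    hks.toIsWeaklyRegular.of_isLocalization Γ(S, S.basicOpen a) (Submonoid.powers a)
  have hK' : (i ≫ p).ker.ideal ⟨S.basicOpen a, hV'⟩ =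
      Ideal.ofList (ks.map (algebraMap Γ(S, V) Γ(S, S.basicOpen a))) := by
    have h0 := (i ≫ p).ker.map_ideal_basicOpen ⟨V, hV⟩ a
    change (i ≫ p).ker.ideal (S.affineBasicOpen (U := ⟨V, hV⟩) a) = _
    rw [← h0, hK, Ideal.map_ofList]
    rfl
  exact exists_regular_chart p i (S.basicOpen a) hV' (X.basicOpen a') hU' hUV' hpre' _ hks' hK'
    y hyU'

/-- **S1676**: a section of a smooth morphism which is a closed immersion is a regular closed
immersion. -/
theorem isRegularClosedImmersion_section {X S : Scheme.{u}} (f : X ⟶ S) [Smooth f] (σ : S ⟶ X)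
    (hσ : σ ≫ f = 𝟙 S) [IsClosedImmersion σ] : Mor2.IsRegularClosedImmersion σ := by
  refine isRegularClosedImmersion_of_smooth f σ (𝟙 S) hσ ⟨inferInstance, fun z => ?_⟩
  obtain ⟨_, ⟨V, hV, rfl⟩, hzV, -⟩ :=
    S.isBasis_affineOpens.exists_subset_of_mem_open (Set.mem_univ z) isOpen_univ
  refine ⟨V, hV, hzV, [], ?_, ?_⟩
  · have : Nonempty V := ⟨⟨z, hzV⟩⟩
    have : Nontrivial Γ(S, V) := inferInstance
    exact IsRegular.nil _ _
  · rw [Scheme.Hom.ker_apply, Ideal.ofList_nil]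
    rw [← RingHom.injective_iff_ker_eq_bot]
    intro a b hab
    exact hab

end Groth.Agent.H8.RegSec
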